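import Groth.Agent.H8Lim.ModHomDescent
import Groth.Agent.DirImgLib.Colim
import Groth.Agent.EGA43.QcohFP
import Groth.Agent.CAlgSmall.FPExtend

/-!
# Homs out of finitely presented quasi-coherent modules commute with filtered colimits (qcqs)
-/

set_option autoImplicit false
set_option backward.isDefEq.respectTransparency false
set_option maxHeartbeats 800000

universe u

open CategoryTheory CategoryTheory.Limits AlgebraicGeometry Opposite TopologicalSpace
open Groth.Agent.Coherent Groth.Agent.PicLib Groth.Agent.AmpleLib Groth.Agent.EGA43.InjFibre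
open Groth.Agent.DirImgLib Groth.Agent.H8Lim

namespace Groth.Agent.QCohFP14

variable {X : Scheme.{u}} {J : Type u} [SmallCategory J] [IsFiltered J] {D : J ⥤ X.Modules}
  {c : Cocone D} (hc : IsColimit c) (hD : ∀ j, Coh.IsQCoh (D.obj j))

theorem app_map_map {a b d : J} (f : a ⟶ b) (g : b ⟶ d) (U : X.Opens) (x : Γ(D.obj a, U)) :
    (D.map g).app U ((D.map f).app U x) = (D.map (f ≫ g)).app U x :=
  (Coherent.Existence.app_congr (D.map_comp f g) U x).symm

include hc hD in
theorem exists_rep {U : X.Opens} (hU : IsAffineOpen U) (z : Γ(c.pt, U)) :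
    ∃ (j : J) (y : Γ(D.obj j, U)), (c.ι.app j).app U y = z := by
  haveI := preservesColimit_sec D hD hU
  obtain ⟨j, y, h⟩ := Concrete.isColimit_exists_rep _ (isColimitOfPreserves (sec U) hc) z
  exact ⟨j, y, h⟩

include hc hD in
theorem exists_kill {U : X.Opens} (hU : IsAffineOpen U) {j : J} (y : Γ(D.obj j, U))
    (h : (c.ι.app j).app U y = 0) : ∃ (k : J) (f : j ⟶ k), (D.map f).app U y = 0 := by
  haveI := preservesColimit_sec D hD hU
  obtain ⟨k, f, g, hfg⟩ := Concrete.isColimit_exists_of_rep_eq _ (isColimitOfPreserves (sec U) hc)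
    y (0 : Γ(D.obj j, U)) (h.trans (map_zero _).symm)
  exact ⟨k, f, (show (D.map f).app U y = (D.map g).app U 0 from hfg).trans (map_zero _)⟩

include hc hD in
/-- A hom from a finite type module killed in the colimit is killed at a stage. -/
theorem exists_stage_eq_zero [CompactSpace X] (F : X.Modules) [Coh.IsQCoh F] (hF : CohB1.IsFT F)
    {j : J} (g : F ⟶ D.obj j) (hg : g ≫ c.ι.app j = 0) : ∃ (k : J) (f : j ⟶ k), g ≫ D.map f = 0 := by
  classical
  obtain ⟨t, ht, hcov⟩ := isCompact_iff_finite_and_eq_biUnion_affineOpens.1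
    (show IsCompact ((⊤ : X.Opens) : Set X) from isCompact_univ)
  have := ht.fintype
  have hgen := fun V : t => (finite_sections_of_isFT (M := F) hF V.1.2).fg_top
  choose T hT using hgen
  have hkill : ∀ r : Σ V : t, ↥(T V), ∃ (k : J) (f : j ⟶ k),
      (D.map f).app r.1.1.1 (g.app r.1.1.1 r.2.1) = 0 := fun r => by
    refine exists_kill hc hD r.1.1.2 _ ?_
    exact (Coherent.Existence.app_congr hg r.1.1.1 r.2.1).trans (by simp)
  choose k f hf using hkill
  obtain ⟨K, η, ηk, hη⟩ := IsFiltered.wideSpan f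
  refine ⟨K, η, ?_⟩
  have key : homLoc (g ≫ D.map η) (⊤ : X.Opens) = homLoc (0 : F ⟶ D.obj K) ⊤ := by
    refine locHom_ext_cover (fun V : t => V.1.1) (fun V => V.1.2) (fun V => le_top) (fun x _ => ?_)
      (fun V => (T V : Set _)) hT fun V m hm => ?_
    · have hx : x ∈ ((⊤ : X.Opens) : Set X) := trivial
      rw [hcov] at hx
      simpa using hx
    · show (D.map η).app V.1.1 (g.app V.1.1 m) = (0 : F ⟶ D.obj K).app V.1.1 m
      rw [← hη ⟨V, m, hm⟩, ← app_map_map, hf ⟨V, m, hm⟩, map_zero]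
      simp
  refine Scheme.Modules.hom_ext _ _ fun W => ?_
  ext a
  exact congrArg (fun θ : locHom F (D.obj K) ⊤ => ev θ W le_top a) key

include hc hD in
/-- A linear map into the colimit on an affine open lifts to a stage. -/
theorem exists_stage_linear (F : X.Modules) [Coh.IsQCoh F] (hF : CohB1.IsFP F) {U : X.Opens}
    (hU : IsAffineOpen U) (h : F ⟶ c.pt) :
    ∃ (j : J) (l : Γ(F, U) →ₗ[Γ(X, U)] Γ(D.obj j, U)), ∀ m, (c.ι.app j).app U (l m) = h.app U m := by
  classical
  have := EGA43.QcohFP.finitePresentation_sections F hF hU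
  obtain ⟨r, e, he⟩ := (inferInstance : Module.Finite Γ(X, U) Γ(F, U)).exists_fin
  choose jg yg hyg using fun i : Fin r => exists_rep hc hD hU (h.app U (e i))
  obtain ⟨j₀, hj₀⟩ := IsFiltered.sup_objs_exists (Finset.univ.image jg)
  let ι₀ : ∀ i : Fin r, jg i ⟶ j₀ := fun i =>
    (hj₀ (Finset.mem_image.2 ⟨i, Finset.mem_univ i, rfl⟩)).some
  let y : Fin r → Γ(D.obj j₀, U) := fun i => (D.map (ι₀ i)).app U (yg i)
  have hy : ∀ i, (c.ι.app j₀).app U (y i) = h.app U (e i) := fun i =>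
    (Coherent.Existence.app_congr (c.w (ι₀ i)) U (yg i)).trans (hyg i)
  have hsurj : LinearMap.range (Fintype.linearCombination Γ(X, U) e) = ⊤ := by
    rw [Fintype.range_linearCombination]; exact he
  obtain ⟨T, hT⟩ : (LinearMap.ker (Fintype.linearCombination Γ(X, U) e)).FG :=
    Module.FinitePresentation.fg_ker _ (LinearMap.range_eq_top.1 hsurj)
  have hrel : ∀ a : ↥T, ∃ (k : J) (f : j₀ ⟶ k),
      (D.map f).app U (Fintype.linearCombination Γ(X, U) y a.1) = 0 := fun a => by
    refine exists_kill hc hD hU _ ?_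
    have ha := LinearMap.mem_ker.1 (hT.le (Submodule.subset_span a.2))
    rw [Fintype.linearCombination_apply] at ha ⊢
    rw [map_sum]
    calc ∑ i, (c.ι.app j₀).app U (a.1 i • y i) = ∑ i, h.app U (a.1 i • e i) := by
          refine Finset.sum_congr rfl fun i _ => ?_
          rw [Scheme.Modules.Hom.app_smul, Scheme.Modules.Hom.app_smul, hy]
      _ = h.app U (∑ i, a.1 i • e i) := (map_sum (h.app U).hom _ _).symm
      _ = 0 := by rw [ha, map_zero]
  choose k f hf using hrel
  obtain ⟨K, η, ηk, hη⟩ := IsFiltered.wideSpan f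
  let g : (Fin r → Γ(X, U)) →ₗ[Γ(X, U)] Γ(D.obj K, U) :=
    Fintype.linearCombination Γ(X, U) fun i => (D.map η).app U (y i)
  have hg : ∀ v, g v = (D.map η).app U (Fintype.linearCombination Γ(X, U) y v) := fun v => by
    simp only [g, Fintype.linearCombination_apply, map_sum]
    exact Finset.sum_congr rfl fun i _ => (Scheme.Modules.Hom.app_smul _ _ _).symm
  have hker : LinearMap.ker (Fintype.linearCombination Γ(X, U) e) ≤ LinearMap.ker g := by
    rw [← hT, Submodule.span_le]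
    intro v hv
    refine LinearMap.mem_ker.2 ?_
    rw [hg, ← hη ⟨v, hv⟩, ← app_map_map, hf ⟨v, hv⟩, map_zero]
  let L : Γ(F, U) →ₗ[Γ(X, U)] Γ(D.obj K, U) :=
    (Submodule.liftQ _ g hker).comp ((Fintype.linearCombination Γ(X, U) e).quotKerEquivOfSurjective
      (LinearMap.range_eq_top.1 hsurj)).symm.toLinearMap
  have hL : ∀ v, L (Fintype.linearCombination Γ(X, U) e v) = g v := fun v => by
    show Submodule.liftQ _ g hker (((Fintype.linearCombination Γ(X, U) e).quotKerEquivOfSurjective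
      (LinearMap.range_eq_top.1 hsurj)).symm _) = _
    rw [show Fintype.linearCombination Γ(X, U) e v =
      (Fintype.linearCombination Γ(X, U) e).quotKerEquivOfSurjective
        (LinearMap.range_eq_top.1 hsurj) (Submodule.Quotient.mk v) by simp, LinearEquiv.symm_apply_apply]
    rfl
  refine ⟨K, L, fun m => ?_⟩
  obtain ⟨v, rfl⟩ := LinearMap.range_eq_top.1 hsurj m
  rw [hL, hg]
  refine (Coherent.Existence.app_congr (c.w η) U _).trans ?_
  simp only [Fintype.linearCombination_apply, map_sum]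
  refine Finset.sum_congr rfl fun i _ => ?_
  rw [Scheme.Modules.Hom.app_smul, Scheme.Modules.Hom.app_smul]
  exact congrArg (v i • ·) (hy i)

include hc hD in
/-- A hom from a finitely presented module to the colimit factors through a stage. -/
theorem exists_stage_hom [CompactSpace X] [QuasiSeparatedSpace X] (F : X.Modules) [Coh.IsQCoh F]
    (hF : CohB1.IsFP F) (h : F ⟶ c.pt) : ∃ (j : J) (g : F ⟶ D.obj j), g ≫ c.ι.app j = h := by
  classical
  obtain ⟨t, ht, hcov⟩ := isCompact_iff_finite_and_eq_biUnion_affineOpens.1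
    (show IsCompact ((⊤ : X.Opens) : Set X) from isCompact_univ)
  have := ht.fintype
  have hcov' : ∀ x : X, ∃ V : t, x ∈ V.1.1 := fun x => by
    have hx : x ∈ ((⊤ : X.Opens) : Set X) := trivial
    rw [hcov] at hx
    simpa using hx
  have hlift := fun V : t => exists_stage_linear hc hD F hF V.1.2 h
  choose jk lk hlk using hlift
  obtain ⟨J₀, hJ₀⟩ := IsFiltered.sup_objs_exists (Finset.univ.image jk)
  let gk : ∀ V : t, jk V ⟶ J₀ := fun V =>
    (hJ₀ (Finset.mem_image.2 ⟨V, Finset.mem_univ V, rfl⟩)).some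
  let ψ : ∀ V : t, locHom F (D.obj J₀) V.1.1 := fun V =>
    postComp (extendHom V.1.2 (lk V)) (D.map (gk V))
  have hψ : ∀ V, postComp (ψ V) (c.ι.app J₀) = homLoc h V.1.1 := by
    intro V
    refine locHom_ext_cover (fun _ : Unit => V.1.1) (fun _ => V.1.2) (fun _ => le_rfl)
      (fun x hx => ⟨(), hx⟩) (fun _ => Set.univ) (fun _ => Submodule.span_univ) fun _ m _ => ?_
    show (c.ι.app J₀).app V.1.1 ((D.map (gk V)).app V.1.1
      (ev (extendHom V.1.2 (lk V)) V.1.1 le_rfl m)) = h.app V.1.1 m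
    have he : ev (extendHom V.1.2 (lk V)) V.1.1 le_rfl m = lk V m := by
      have := ev_extendHom V.1.2 (lk V) m (le_refl V.1.1)
      rwa [resM_refl, resM_refl] at this
    rw [he]
    exact (Coherent.Existence.app_congr (c.w (gk V)) _ _).trans (hlk V m)
  have hov : ∀ p : t × t, ∃ S : Set X.affineOpens, S.Finite ∧
      (p.1.1.1 ⊓ p.2.1.1 : X.Opens) = ⨆ V ∈ S, ((V : X.affineOpens) : X.Opens) := fun p => by
    have hc' : IsCompact ((p.1.1.1 ⊓ p.2.1.1 : X.Opens) : Set X) :=
      QuasiSeparatedSpace.inter_isCompact _ _ p.1.1.1.2 p.1.1.2.isCompact p.2.1.1.2 p.2.1.2.isCompact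
    obtain ⟨S, hS, he⟩ := (isCompact_iff_finite_and_eq_biUnion_affineOpens
      (U := (p.1.1.1 ⊓ p.2.1.1 : X.Opens))).1 hc'
    exact ⟨S, hS, he⟩
  choose S hS hVcov using hov
  have := fun p => (hS p).fintype
  have hle : ∀ p (x : S p), x.1.1 ≤ p.1.1.1 ⊓ p.2.1.1 := fun p x =>
    (le_iSup₂ (f := fun (V : X.affineOpens) (_ : V ∈ S p) => (V : X.Opens)) x.1 x.2).trans (hVcov p).ge
  choose T hT using fun q : Σ p : t × t, ↥(S p) =>
    (finite_sections_of_isFT (CAlgSmall.FPExtend.isFT_of_isFP F hF) q.2.1.2).fg_top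
  have hkill : ∀ r : Σ q : (Σ p : t × t, ↥(S p)), ↥(T q), ∃ (K : J) (η : J₀ ⟶ K),
      (D.map η).app r.1.2.1.1
        (ev (ψ r.1.1.1) _ ((hle _ r.1.2).trans inf_le_left) r.2.1 -
          ev (ψ r.1.1.2) _ ((hle _ r.1.2).trans inf_le_right) r.2.1) = 0 := by
    intro r
    refine exists_kill hc hD r.1.2.1.2 _ ?_
    rw [map_sub, sub_eq_zero, ← ev_postComp, ← ev_postComp, hψ, hψ]
    rfl
  choose Kr ηr hKr using hkill
  obtain ⟨K, η, ηk, hη⟩ := IsFiltered.wideSpan ηr
  let χ := fun V : t => postComp (ψ V) (D.map η)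
  obtain ⟨Φ, hΦ⟩ := exists_hom_of_locHom (fun V : t => V.1.1) hcov' χ fun k l => by
    refine locHom_ext_cover (fun x : S (k, l) => x.1.1) (fun x => x.1.2) (fun x => hle (k, l) x)
      (fun y hy => ?_) (fun x => (T ⟨(k, l), x⟩ : Set _)) (fun x => hT ⟨(k, l), x⟩) fun x m hm => ?_
    · obtain ⟨V, hV0⟩ := Opens.mem_iSup.1 ((hVcov (k, l)).le hy)
      obtain ⟨hV, hyV⟩ := Opens.mem_iSup.1 hV0
      exact ⟨⟨V, hV⟩, hyV⟩
    · show (D.map η).app _ (ev (ψ k) _ _ m) = (D.map η).app _ (ev (ψ l) _ _ m)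
      rw [← sub_eq_zero, ← map_sub, ← hη ⟨⟨(k, l), x⟩, m, hm⟩, ← app_map_map]
      exact (congrArg _ (hKr ⟨⟨(k, l), x⟩, m, hm⟩)).trans (map_zero _)
  refine ⟨K, Φ, Scheme.Modules.hom_ext _ _ fun W => ?_⟩
  ext a
  refine AmpleLib.sec_ext _ _ _ fun x hx => ?_
  obtain ⟨V, hxV⟩ := hcov' x
  refine ⟨W ⊓ V.1.1, inf_le_left, ⟨hx, hxV⟩, ?_⟩
  rw [← app_resM, ← app_resM]
  show (c.ι.app K).app _ (Φ.app _ (resM F inf_le_left a)) = h.app _ _
  rw [hΦ V _ inf_le_right]
  show (c.ι.app K).app _ ((D.map η).app _ (ev (ψ V) _ _ _)) = _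
  refine (Coherent.Existence.app_congr (c.w η) _ _).trans ?_
  rw [← ev_postComp, hψ]
  rfl

end Groth.Agent.QCohFP14
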